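import Mathlib
import Cfsg.Agent.Lib.Helper78.CharMore

/-!
# S2318-[A-STAGE3] (helper66): two irreducible characters which are both constituents (multiplicity one) of two
characters `Φ`, `Γ` with `⟨Φ, Γ⟩ ≤ 1` are equal.
-/

set_option autoImplicit false

namespace Cfsg.Agent.Lib.Helper66.StUniq

open Cfsg
open scoped ComplexConjugate
open Cfsg.Agent.Lib.Helper78

universe u
variable {G : Type u} [Group G]

theorem eq_of_common_constituents [Fintype G] (Φ Γ : G → ℂ) (hΦ : IsCharacter G Φ)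
    (hΓ : IsCharacter G Γ) (k : ℕ) (hk : k ≤ 1) (hΦΓ : classInner Φ Γ = (k : ℂ))
    (χ χ' : G → ℂ) (hχ : IsIrrCharacter G χ) (hχ' : IsIrrCharacter G χ')
    (h1 : classInner χ Φ = 1) (h2 : classInner χ Γ = 1)
    (h1' : classInner χ' Φ = 1) (h2' : classInner χ' Γ = 1) : χ = χ' := by
  classical
  by_contra hne
  have hne' : (⟨χ, hχ⟩ : IrrCharacter G) ≠ ⟨χ', hχ'⟩ := fun h => hne (congrArg Subtype.val h)
  have sw : ∀ a b : G → ℂ, classInner a b = 1 → classInner b a = 1 := by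
    intro a b h
    rw [← classInner_conj_symm a b, h, map_one]
  choose A hA using fun φ => IsCharacter.exists_nat_classInner hΦ φ
  choose B hB using fun φ => IsCharacter.exists_nat_classInner hΓ φ
  have e1 := classInner_eq_sum_mul_conj Γ (IsCharacter.isClassFunction hΦ)
  have e2 : (k : ℂ) = ((∑ φ : IrrCharacter G, A φ * B φ : ℕ) : ℂ) := by
    rw [← hΦΓ, e1]
    push_cast
    apply Finset.sum_congr rfl
    intro φ _
    rw [hA, hB, Complex.conj_natCast]
  have e3 : k = ∑ φ : IrrCharacter G, A φ * B φ := by exact_mod_cast e2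
  have a1 : A ⟨χ, hχ⟩ = 1 := by
    have h := hA ⟨χ, hχ⟩
    rw [sw _ _ h1] at h
    exact_mod_cast h.symm
  have b1 : B ⟨χ, hχ⟩ = 1 := by
    have h := hB ⟨χ, hχ⟩
    rw [sw _ _ h2] at h
    exact_mod_cast h.symm
  have a2 : A ⟨χ', hχ'⟩ = 1 := by
    have h := hA ⟨χ', hχ'⟩
    rw [sw _ _ h1'] at h
    exact_mod_cast h.symm
  have b2 : B ⟨χ', hχ'⟩ = 1 := by
    have h := hB ⟨χ', hχ'⟩
    rw [sw _ _ h2'] at h
    exact_mod_cast h.symm
  have e4 : ∑ φ ∈ ({⟨χ, hχ⟩, ⟨χ', hχ'⟩} : Finset (IrrCharacter G)), A φ * B φ ≤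
      ∑ φ : IrrCharacter G, A φ * B φ :=
    Finset.sum_le_sum_of_subset (Finset.subset_univ _)
  rw [Finset.sum_pair hne', a1, b1, a2, b2] at e4
  omega

end Cfsg.Agent.Lib.Helper66.StUniq
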